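import Cfsg.Agent.G2C.M
import Cfsg.Agent.BG.S04b
import Cfsg.Agent.SE.Gen
/-! Sylow 2-subgroup of type `G₂(q)` with central involution: the quaternion subgroups are strongly closed. -/
set_option autoImplicit false
set_option linter.unusedVariables false
set_option linter.unusedSectionVars false

namespace Cfsg.Agent.G2C
open Cfsg.Agent.G2S Cfsg.Agent.BG Subgroup

variable {G : Type*} [Group G] [Finite G] {N : ℕ} {q : ZMod N} {φ : MM N →* G} {g k : G} {x y x' y' s u : MM N}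

theorem p2 : Nat.Prime 2 := Nat.prime_two

/-- `g` conjugates `x` to `y` -/
def Mp (φ : MM N →* G) (g : G) (x y : MM N) : Prop := g * φ x * g⁻¹ = φ y

theorem Mp.mul (a : Mp φ g x x') (b : Mp φ g y y') : Mp φ g (x * y) (x' * y') := by
  rw [Mp, map_mul, map_mul, ← a, ← b, conj_mul]
theorem Mp.inv (a : Mp φ g x x') : Mp φ g x⁻¹ x'⁻¹ := by rw [Mp, map_inv, map_inv, ← a, conj_inv]
theorem Mp.comp (a : Mp φ g x y) (b : Mp φ k y u) : Mp φ (k * g) x u := by rw [Mp, ← b, ← a]; group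
theorem Mp.symm (a : Mp φ g x y) : Mp φ g⁻¹ y x := by rw [Mp, ← a]; group
theorem mp_in (s x : MM N) : Mp φ (φ s) x (s * x * s⁻¹) := by simp [Mp]
theorem Mp.cj (a : Mp φ g x y) (s : MM N) : Mp φ (φ s * g) x (s * y * s⁻¹) := a.comp (mp_in s y)
theorem mp_one : Mp φ g 1 1 := by simp [Mp]
theorem mp_ex (h : g * φ x * g⁻¹ ∈ φ.range) : ∃ y, Mp φ g x y := h.imp fun _ => Eq.symm
theorem mim {A : Subgroup (MM N)} (h : x ∈ A) : φ x ∈ A.map φ := mem_map_of_mem _ h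
theorem mp_ex' {X : Subgroup G} (l : cj g X ≤ φ.range) (h : φ x ∈ X) : ∃ y, Mp φ g x y := mp_ex (l (mem_cj_conj.2 h))
theorem rg_N {A : Subgroup (MM N)} (h : ∀ s x, x ∈ A → s * x * s⁻¹ ∈ A) : φ.range ≤ N[A.map φ] := by
  rintro _ ⟨s, rfl⟩
  exact mem_N_of (by rintro _ ⟨x, i, rfl⟩; rw [mp_in s x]; exact mim (h s x i))

structure Sy (q : ZMod N) (φ : MM N →* G) : Prop where
  qd : Qd q
  inj : Function.Injective φ
  syl : Syl 2 φ.range ⊤
  cz : ∀ g, Mp φ g (zz q) (zz q)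

/-- the fusion of the swap with the involution of the torus -/
def F1 (q : ZMod N) (φ : MM N →* G) : Prop := ∃ g y, Mp φ g ww (tt q) ∧ Mp φ g (cc q) y

namespace Sy
variable (h : Sy q φ)
include h

theorem iff (a : Mp φ g x x') (b : Mp φ g y y') : x = y ↔ x' = y' :=
  ⟨fun e => h.inj (by rw [← a, ← b, e]), fun e => h.inj (conj_injective (a.trans ((congrArg φ e).trans (Eq.symm b))))⟩
theorem one (a : Mp φ g x y) : x = 1 ↔ y = 1 := h.iff a mp_one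
theorem z (a : Mp φ g x y) : x = zz q ↔ y = zz q := h.iff a (h.cz g)
theorem cm (a : Mp φ g x x') (b : Mp φ g y y') (e : x * y = y * x) : x' * y' = y' * x' :=
  (h.iff (a.mul b) (b.mul a)).1 e
theorem pig (A : Subgroup (MM N)) : PiG {2} (A.map φ) := h.syl.pi.of_le (map_le_range _ _)
theorem sig : Sy q (φ.comp sig) := ⟨h.qd, h.inj.comp (Function.LeftInverse.injective sig_sig), by
  rw [MonoidHom.range_comp, MonoidHom.range_eq_top.2 (Function.RightInverse.surjective sig_sig),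
    ← MonoidHom.range_eq_map]; exact h.syl, fun g => by simpa [Mp, sig_z h.qd] using h.cz g⟩

theorem ct (i : x = tt q ∨ x = tt q * zz q) (e : y * x = x * y) : y.f = false := c_t h.qd (i.elim (· ▸ e) fun j => by
  rw [j, ← mul_assoc, mul_assoc _ _ y, ← h.qd.z_comm y, ← mul_assoc] at e; exact mul_right_cancel e)

theorem t_im (a : Mp φ g (tt q) x) (i : x ∈ TT) : x = tt q ∨ x = tt q * zz q :=
  ((T_inv h.qd i ((h.one (a.mul a)).1 h.qd.t_sq)).resolve_left (mt (h.one a).2 h.qd.t_ne)).resolve_left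
    (mt (h.z a).2 fun e => h.qd.ne (congrArg MM.b e).symm)

theorem wT (l : cj g (TT.map φ) ≤ φ.range) : g ∈ N[TT.map φ] := mem_N_of (by
  rintro _ ⟨x, i, rfl⟩
  obtain ⟨x', a⟩ := mp_ex' l (mim i)
  obtain ⟨c, b⟩ := mp_ex' l (mim (C_T cc_C : cc q ∈ TT))
  obtain ⟨d, e⟩ := mp_ex' l (mim (⟨rfl, rfl⟩ : (⟨q, 0, false, false⟩ : MM N) ∈ TT))
  have t : Mp φ g (tt q) (d * d) := by simpa [mul_df, tt] using e.mul e
  have f : ∀ {y y'}, y ∈ TT → Mp φ g y y' → y'.f = false := fun j k =>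
    h.ct (h.t_im t (sqT d)) (h.cm k t (T_ab j tt_T))
  have cT : c ∈ TT := by_contra fun n => h.qd.z_ne ((h.one (b.mul b)).2 (sq_i (f (C_T cc_C) b) n))
  rw [a]
  refine mim (by_contra fun n => h.qd.z_ne ?_)
  have e1 := (h.one (a.mul a)).2 (sq_i (f i a) n)
  have e2 := (h.one ((a.mul b).mul (a.mul b))).2 (sq_i (f (mul_mem i (C_T cc_C)) (a.mul b))
    fun j => n ((mul_mem_cancel_right cT).1 j))
  rwa [(show Commute (cc q) x from T_ab (C_T cc_C) i).mul_mul_mul_comm, e1, one_mul] at e2)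

theorem oddT (n : g ∈ N[TT.map φ]) (o : Odd (orderOf g)) : g ∈ C[TT.map φ] := by
  have k : ∀ {x}, x ∈ TT → (∀ y ∈ TT, y * y = 1 → g ∈ C1[φ y]) → g ∈ C1[φ (x * x)] → g ∈ C1[φ x] := fun {x} i j l => by
    obtain ⟨y, m, e⟩ := conj_mem n (mim i)
    have a : Mp φ g x y := e.symm
    have d : x⁻¹ * y * (x⁻¹ * y) = 1 := by
      rw [(show Commute y x⁻¹ from T_ab m (inv_mem i)).mul_mul_mul_comm, ← (h.iff (a.mul a) (show Mp φ g (x * x) (x * x) by
        rw [Mp, mem_C1.1 l, mul_inv_cancel_right])).1 rfl |>.symm]; group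
    have b : Mp φ g (x⁻¹ * y) (x⁻¹ * y) := by rw [Mp, mem_C1.1 (j _ (mul_mem (inv_mem i) m) d), mul_inv_cancel_right]
    have c := a.comp (show Mp φ g y x by
      simpa [show y * (x⁻¹ * y) = x by rw [← mul_inv_cancel_left x (y * _), ← mul_assoc x⁻¹, d, mul_one]] using a.mul b)
    exact SE.mem_of_sq_mem o (mem_C1.2 (mul_inv_eq_iff_eq_mul.1 c))
  have zc : g ∈ C1[φ (zz q)] := mem_C1.2 (mul_inv_eq_iff_eq_mul.1 (h.cz g))
  have tc : g ∈ C1[φ (tt q)] := by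
    obtain ⟨y, m, e⟩ := conj_mem n (mim tt_T)
    have a : Mp φ g (tt q) y := e.symm
    rcases h.t_im a m with rfl | rfl
    · exact mem_C1.2 (mul_inv_eq_iff_eq_mul.1 a)
    · have c := a.comp (a.mul (h.cz g))
      rw [mul_assoc, h.qd.z_sq, mul_one] at c
      exact SE.mem_of_sq_mem o (mem_C1.2 (mul_inv_eq_iff_eq_mul.1 c))
  have j : ∀ y ∈ TT, y * y = 1 → g ∈ C1[φ y] := fun y i e => by
    rcases T_inv h.qd i e with rfl | rfl | rfl | rfl
    exacts [by simp [C1_one], zc, tc, map_mul φ _ _ ▸ C1_symm (mul_mem (C1_symm tc) (C1_symm zc))]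
  have l : ∀ m : ℕ, ∀ x ∈ TT, φ x ^ 2 ^ m = 1 → g ∈ C1[φ x] := fun m => by
    induction m with
    | zero => exact fun x _ e => by rw [pow_zero, pow_one] at e; simp [e, C1_one]
    | succ m ih => exact fun x i e => k i j (ih _ (sqT x) (by rwa [map_mul, ← pow_two, ← pow_mul, ← pow_succ']))
  refine mem_C.2 ?_
  rintro _ ⟨x, i, rfl⟩
  obtain ⟨m, e⟩ := (h.syl.pi.elt ⟨x, rfl⟩).pow_eq_one p2
  exact mem_C1'.1 (l m x i e)

theorem NT (n : g ∈ N[TT.map φ]) : ∃ s, ∀ x ∈ TT, Mp φ g x (s * x * s⁻¹) := by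
  obtain ⟨_, ⟨s, rfl⟩, c, i, rfl⟩ := ((h.syl.sub (rg_N fun s x => nT s) le_top).prod_idx (C_le_N _)
    (pin_relIndex_of_pig fun r hr r2 Q l p a i => h.oddT (l i) (Nat.not_even_iff_odd.1 fun e =>
      r2 ((p.elt i).eq_prime p2 (even_iff_two_dvd.1 e)).symm))).ex g n
  exact ⟨s, fun x j => (show Mp φ c x x by rw [Mp, ← mem_C.1 i _ (mim j), mul_inv_cancel_right]).cj s⟩

theorem fusT (i : x ∈ TT) (j : y ∈ TT) (a : Mp φ g x y) : ∃ s, y = s * x * s⁻¹ := by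
  have c : ∀ {y}, y ∈ TT → TT.map φ ≤ C1[φ y] := fun j => by
    rintro _ ⟨u, l, rfl⟩
    rw [mem_C1, ← map_mul, ← map_mul, T_ab l j]
  obtain ⟨P, s, l⟩ := syl_superset p2 (c j) (h.pig _)
  obtain ⟨d, b, l'⟩ := s.cj_sub p2 (U := cj g (TT.map φ)) (by rw [← a, ← cj_C1]; exact cj_mono _ (c i)) ((h.pig _).cj _)
  obtain ⟨m, -, e⟩ := h.syl.cj_sub p2 le_top s.pi
  have n := mul_mem (inv_mem (h.wT ((cj_mono m l).trans e))) (h.wT (g := m * (d * g))
    (by rw [cj_mul, cj_mul]; exact (cj_mono m l').trans e))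
  rw [inv_mul_cancel_left] at n
  obtain ⟨s, k⟩ := h.NT n
  exact ⟨s, (h.iff (a.comp (show Mp φ d y y by rw [Mp, mem_C1.1 b, mul_inv_cancel_right])) (k x i)).1 rfl⟩

theorem fusC (i : x ∈ CC) (j : y ∈ TT) (a : Mp φ g x y) : y = x ∨ y = x⁻¹ := by
  obtain ⟨s, rfl⟩ := h.fusT (C_T i) j a
  exact cjC s i
theorem fusC' (i : x ∈ CC) (j : y ∈ TT) (a : Mp φ g x y) : y ∈ CC :=
  (h.fusC i j a).elim (· ▸ i) (· ▸ inv_mem i)

theorem BA (f : F1 q φ) : ∃ g u v, Mp φ g (cc q * ww) u ∧ (u = (G2C.sig (cc q))⁻¹ ∨ u = G2C.sig (cc q)) ∧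
    Mp φ g (cc q) v ∧ (v = cc q ∨ v = (cc q)⁻¹) := by
  obtain ⟨g, y, a, b⟩ := f
  have e := h.fusC cc_C (by_contra fun n => h.qd.z_ne ((h.one (b.mul b)).2 (sq_i
    (c_t h.qd (h.cm b a (B_cm cc_C rfl).symm)) n))) b
  exact ⟨g, _, y, b.mul a, e.imp (fun k => by rw [k, (bt h.qd).1]) (fun k => by rw [k, (bt h.qd).2]), b, e⟩

theorem Dc (f : F1 q (φ.comp G2C.sig)) (a : ZMod N) : ∃ g, Mp φ g (dq q a) (cc q) := by
  obtain ⟨g, u, -, b, e, -⟩ := h.sig.BA f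
  obtain ⟨c, -, k⟩ := dq_cj h.qd a (-q)
  have b : Mp φ g (dq q (-q)) (G2C.sig u) := by
    convert (show Mp φ g (G2C.sig (cc q * ww)) (G2C.sig u) from b) using 1
    mm; grind
  have b := (k ▸ mp_in c (dq q a)).comp b
  rcases e with rfl | rfl
  · exact ⟨_, by simpa [sig_sig, iC (inv_mem (C_T cc_C))] using b.cj ii⟩
  · exact ⟨_, sig_sig (cc q) ▸ b⟩

theorem sc4 (f : F1 q φ) (a : Mp φ g (cc q) y) : y ∈ RR h.qd := by
  have e := (h.z (a.mul a)).1 cc_sq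
  rcases sqz h.qd e with i | i | i
  · exact C_R h.qd (h.fusC' cc_C i a)
  · exact i
  obtain ⟨c, -, k⟩ := B_cj (u := cc q * ww) i.1 i.2 rfl rfl (e.trans (cw_sq h.qd).symm)
  obtain ⟨g, u, -, b, rfl | rfl, -⟩ := h.BA f
  · exact ((sigc_nC h.qd).2 (h.fusC' cc_C ⟨rfl, rfl⟩ ((k ▸ a.cj c).comp b))).elim
  · exact ((sigc_nC h.qd).1 (h.fusC' cc_C ⟨rfl, rfl⟩ ((k ▸ a.cj c).comp b))).elim

theorem cls (i : x ∈ CC) (n1 : x * x ≠ 1) (n2 : x * x ≠ zz q) (a : Mp φ g x y) :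
    (y = x ∨ y = x⁻¹) ∨ (y.e = false ∧ y.f = true) := by
  by_cases t : y ∈ TT
  · exact .inl (h.fusC i t a)
  cases f : y.f
  · exact (n1 ((h.one (a.mul a)).2 (sq_i f t))).elim
  cases e : y.e
  · exact .inr ⟨rfl, rfl⟩
  exact ((D_sq h.qd e f (h.fusC' (mul_mem i i) (sqT y) (a.mul a))).elim (mt (h.one (a.mul a)).2 n1)
    (mt (h.z (a.mul a)).2 n2)).elim

theorem noB (i : x ∈ CC) (n1 : x * x ≠ 1) (n2 : x * x ≠ zz q) (a : Mp φ g x y) (e : y.e = false) (f : y.f = true) :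
    False := by
  have xT := C_T i
  obtain ⟨g, y, a, e, f, s⟩ : ∃ g y, Mp φ g x y ∧ y.e = false ∧ y.f = true ∧ y * y = x * x := by
    rcases h.fusC (mul_mem i i) (sqT y) (a.mul a) with k | k
    · exact ⟨g, y, a, e, f, k⟩
    · exact ⟨_, _, a.cj ii, (B_i e f).1, (B_i e f).2, by rw [conj_mul, iC (sqT y), k, inv_inv]⟩
  have c := B_cm i e
  have xy : x ≠ y := fun k => by rw [← k, i.2.1] at f; cases f
  obtain ⟨k, u, b, d⟩ : ∃ k u, Mp φ k y x ∧ Mp φ k x u := by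
    obtain ⟨n, m, l⟩ := Syl.cj_sub (h.syl.sub (L := N[zpowers (φ x)]) (by
        rw [← MonoidHom.map_zpowers]
        exact rg_N fun s y j => (cjC s (zpowers_le.2 i j)).elim (·.symm ▸ j) (·.symm ▸ inv_mem j)) le_top) p2
      (U := cj g⁻¹ (C1[y].map φ)) (le_trans (by
        rw [← a.symm, ← cj_C1]
        refine cj_mono _ ?_
        rintro _ ⟨u, j, rfl⟩
        rw [mem_C1, ← map_mul, ← map_mul, mem_C1.1 j]) (norm_zpowers le_rfl)) ((h.pig _).cj _)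
    rw [← cj_mul] at l
    obtain ⟨u, d⟩ := mp_ex' l (mim (mem_C1'.2 c))
    obtain ⟨v, j, b⟩ := (MonoidHom.map_zpowers φ x).ge (conj_mem m (mem_zpowers _))
    have b : Mp φ n x v := b.symm
    rcases h.fusC i (C_T (zpowers_le.2 i j)) b with rfl | rfl
    · exact ⟨_, u, a.symm.comp b, d⟩
    · exact ⟨_, _, by simpa [iC (inv_mem xT)] using (a.symm.comp b).cj ii, d.cj ii⟩
  have s' : u * u = x * x := (h.iff (d.mul d) (b.mul b)).1 s.symm
  obtain ⟨e', f'⟩ := (h.cls i n1 n2 d).resolve_left (by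
    rintro (rfl | rfl)
    · exact xy ((h.iff d b).2 rfl)
    · exact (C_inv h.qd (mul_mem i i) (by nth_rw 1 [← s']; group)).elim n1 n2)
  obtain ⟨t, tT, ht⟩ := B_cj e' f' e f (s'.trans s.symm)
  have d := ht ▸ d.cj t
  have b : Mp φ (φ t * k) y x := by simpa [T_ab tT xT] using b.cj t
  generalize φ t * k = k at b d
  obtain ⟨v, v1, w, w1, e1, pv, pw⟩ := exists_pi_part {2} k
  have cw : ∀ {x}, Mp φ (k * k) x x → Mp φ w⁻¹ x x := fun {x} j => by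
    obtain ⟨n, rfl⟩ := w1
    have : k ^ n ∈ C1[φ x] := SE.mem_of_sq_mem (Nat.not_even_iff_odd.1 fun e => (pin_compl p2).1 pw (even_iff_two_dvd.1 e))
      ((Commute.refl k).mul_zpow n ▸ zpow_mem (mem_C1.2 (mul_inv_eq_iff_eq_mul.1 j)) n)
    rw [Mp, mem_C1.1 (inv_mem this), mul_inv_cancel_right]
  have d : Mp φ v x y := by simpa [e1] using (cw (d.comp b)).comp d
  have b : Mp φ v y x := by simpa [e1] using (cw (b.comp ‹Mp φ k x y›)).comp b
  obtain ⟨m, -, l⟩ := h.syl.cj_sub p2 le_top ((h.syl.pi.of_le (sup_le (zpowers_le.2 ⟨x, rfl⟩) (zpowers_le.2 ⟨y, rfl⟩))).sup_l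
    (pig_zpowers.2 pv) (zpowers_le.2 (mem_N_iff_cj.2 (by rw [cj_sup, cj_zpowers, cj_zpowers, d, b, sup_comm]))))
  obtain ⟨x', a1⟩ := mp_ex' l (mem_sup_left (mem_sup_left (mem_zpowers _)))
  obtain ⟨y', a2⟩ := mp_ex' l (mem_sup_left (mem_sup_right (mem_zpowers _)))
  obtain ⟨r, hr⟩ := l (mem_cj_conj.2 (mem_sup_right (mem_zpowers v)))
  have e2 : r * x' * r⁻¹ = y' := h.inj (by rw [map_mul, map_mul, map_inv, hr, ← a1, ← a2, ← d]; group)
  have cC : ∀ {u}, u = x ∨ u = x⁻¹ → u ∈ CC := fun j => j.elim (· ▸ i) (· ▸ inv_mem i)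
  have nC : ∀ s {u : MM N}, u ∈ CC → s * u * s⁻¹ ∈ CC := fun s u j => (cjC s j).elim (·.symm ▸ j) (·.symm ▸ inv_mem j)
  have a3 := a1.inv.mul a2
  have rC : x'⁻¹ * y' ∈ CC := by
    rcases h.cls i n1 n2 a1 with j | j
    · exact mul_mem (inv_mem (cC j)) (e2 ▸ nC r (cC j))
    rcases h.cls i n1 n2 (a.comp a2) with j' | j'
    · have := (nC r⁻¹ (cC j')).2.1
      rw [← e2, show r⁻¹ * (r * x' * r⁻¹) * r⁻¹⁻¹ = x' by group, j.2] at this
      cases this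
    · exact B_inv h.qd j.1 j.2 ⟨by simp [mul_df, inv_df, j, j'], by simp [mul_df, inv_df, j, j']⟩
        (h.cm a1 a3 (by rw [mul_assoc, c]; group))
  have r2 : x⁻¹ * y * (x⁻¹ * y) = 1 := by
    rw [(show Commute y x from c).inv_right.mul_mul_mul_comm, s]; group
  have : (x⁻¹ * y).f = true := by simp [mul_df, inv_df, f, i.2.1]
  rcases C_inv h.qd rC ((h.one (a3.mul a3)).1 r2) with j | j
  · rw [(h.one a3).2 j] at this; cases this
  · rw [(h.z a3).2 j] at this; cases this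

theorem sc (f : F1 q φ) (f' : F1 q (φ.comp G2C.sig)) (i : x ∈ RR h.qd) (a : Mp φ g x y) : y ∈ RR h.qd := by
  rcases R_cases h.qd i with j | ⟨b, rfl⟩
  swap
  · obtain ⟨k, c⟩ := h.Dc f' b
    exact h.sc4 f (c.symm.comp a)
  by_cases n1 : x * x = 1
  · rcases C_inv h.qd j n1 with rfl | rfl
    · exact (h.one a).1 rfl ▸ one_mem _
    · exact (h.z a).1 rfl ▸ i
  by_cases n2 : x * x = zz q
  · rcases sqz_T h.qd (C_T j) n2 with rfl | rfl | rfl | rfl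
    · exact h.sc4 f a
    · exact inv_mem_iff.1 (h.sc4 f (inv_inv (cc q) ▸ a.inv))
    · exact ((sigc_nC h.qd).1 j).elim
    · exact ((sigc_nC h.qd).2 j).elim
  rcases h.cls j n1 n2 a with (rfl | rfl) | e
  exacts [i, inv_mem i, (h.noB j n1 n2 a e.1 e.2).elim]

end Sy

end Cfsg.Agent.G2C
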