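import Cfsg.Agent.GW.QG2
/-! The outer automorphism group of `SL₂(q)` is abelian. -/
set_option autoImplicit false
set_option linter.unusedVariables false
set_option linter.unusedSectionVars false

namespace Cfsg.Agent.G2C
open Cfsg.Agent.BG Cfsg.Agent.GW Subgroup
open scoped commutatorElement MatrixGroups

variable {G : Type*} [Group G] [Finite G] {L : Subgroup G}

theorem md_aut {F : Type*} [Field F] [Finite F] (h2 : (2 : F) ≠ 0) :
    Md (MulAut.conj (G := SL(2, F))).range MulAut.conj (MonoidHom.id _) := by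
  refine ⟨h2, rfl, fun {A B} => ?_, fun y A => by ext1; simp, fun y => ?_, fun _ _ e => e, fun _ _ => rfl⟩
  · rw [← Class.psl_eq_iff, QuotientGroup.eq, mem_center_iff]
    refine ⟨fun e g => ?_, fun e => MulEquiv.ext fun g => ?_⟩
    · have : A * g * A⁻¹ = B * g * B⁻¹ := DFunLike.congr_fun e g
      calc _ = A⁻¹ * (A * g * A⁻¹) * B := by group
        _ = _ := by rw [this]; group
    · calc A * g * A⁻¹ = A * (g * (A⁻¹ * B)) * B⁻¹ := by group
        _ = B * g * B⁻¹ := by rw [e]; group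
  · obtain ⟨β, a, b⟩ := psl_aut (QuotientGroup.congr (center SL(2, F)) (center SL(2, F)) y
      (characteristic_iff_map_eq.1 inferInstance y))
    obtain rfl : y = β := MulEquiv.toMonoidHom_injective (lift_uniq h2 fun A => Class.psl_eq_iff.1 (a A))
    exact b

theorem out_comm (n : ⊤ ≤ N[L]) (h : IsSL L) : DD G ≤ L ⊔ C[L] := by
  obtain ⟨F, _, _, o, ⟨e⟩⟩ := h
  have := normal_iff.2 n
  let γ : G →* MulAut SL(2, F) := (MulAut.congr e).toMonoidHom.comp MulAut.conjNormal
  refine comm_le_iff.2 fun a _ b _ => ?_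
  obtain ⟨A, i⟩ := (md_aut (two_ne o)).comm_mem (γ a) (γ b)
  rw [← map_inv, ← map_inv, ← map_mul, ← map_mul, ← map_mul] at i
  generalize a * b * a⁻¹ * b⁻¹ = c at i
  obtain ⟨l, rfl⟩ := e.surjective A
  rw [← mul_inv_cancel_left (l : G) c]
  refine mul_mem_sup l.2 (mem_C.2 fun x j => ?_)
  have k : e l * e ⟨x, j⟩ * (e l)⁻¹ = e (MulAut.conjNormal c (e.symm (e ⟨x, j⟩))) := DFunLike.congr_fun i (e ⟨x, j⟩)
  rw [← map_inv, ← map_mul, ← map_mul, e.symm_apply_apply] at k
  have k : (l : G) * x * (l : G)⁻¹ = c * x * c⁻¹ := congrArg Subtype.val (e.injective k)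
  calc _ = (l : G)⁻¹ * (l * x * (l : G)⁻¹) * c := by group
    _ = _ := by rw [k]; group

end Cfsg.Agent.G2C
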