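import Cfsg.Agent.G2C.QG
import Cfsg.Agent.G2C.Out
import Cfsg.Agent.G75.D
/-! The two normal subgroups of type `SL₂`. -/
set_option autoImplicit false
set_option linter.unusedVariables false
set_option linter.unusedSectionVars false

namespace Cfsg.Agent.G2C
open Cfsg Cfsg.Agent.G2S Cfsg.Agent.BG Cfsg.Agent.GW Subgroup
open scoped commutatorElement

variable {G : Type*} [Group G] [Finite G] {N k : ℕ} {q : ZMod N} {φ ψ : MM N →* G} {g : G} {x y : MM N}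
  {S Z T T' M L L' : Subgroup G}

theorem sp_quot (hS : Syl 2 S ⊤) (hO : O'[(⊤ : Subgroup G)] = ⊥) (c : Z ≤ C[(⊤ : Subgroup G)]) (z1 : Z ≤ T)
    (z2 : Z ≤ T') (h1 : IsStronglyClosed T S) (h2 : IsStronglyClosed T' S) (cm : T ≤ C[T']) (d : T ⊓ T' ≤ Z) :
    T ≤ C[normalClosure (T' : Set G)] := by
  have nZ : Z.Normal := normal_iff.2 (cents_norm (cent_symm c))
  have pZ : PiG {2} Z := hS.pi.of_le (z1.trans h1.1)
  obtain ⟨π, hπ⟩ : ∃ π, π = QuotientGroup.mk' Z := ⟨_, rfl⟩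
  have sπ : Function.Surjective π := hπ ▸ QuotientGroup.mk'_surjective _
  have kπ : π.ker = Z := hπ ▸ QuotientGroup.ker_mk' _
  have up : ∀ {A : Subgroup G} {a}, Z ≤ A → π a ∈ A.map π → a ∈ A := fun {A a} l h => by
    rwa [← mem_comap, comap_map_eq, kπ, sup_eq_left.2 l] at h
  have sc : ∀ {T}, Z ≤ T → IsStronglyClosed T S → IsStronglyClosed (T.map π) (S.map π) := fun l h => ⟨map_mono h.1, by
    rintro _ ⟨x, i, rfl⟩ g j
    obtain ⟨g, rfl⟩ := sπ g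
    rw [← map_inv, ← map_mul, ← map_mul] at j ⊢
    exact mem_map_of_mem _ (h.2 x i g (up (l.trans h.1) j))⟩
  have p := (G75.sp_CJ (map_top_of_surjective _ sπ ▸ hS.map π) (sc z1 h1) (sc z2 h2) (cent_map cm π) (eq_bot_iff.2 (by
    rintro _ ⟨⟨x, i, rfl⟩, j⟩
    exact kπ.ge (d ⟨i, up z2 j⟩)))).main
  rw [← pPrimeCore_eq p2, Dih.pPrimeCore_quotient_central ((pPrimeCore_eq p2).trans hO)
    (fun _ hc => mem_center_iff.2 fun g => mem_C.1 (c hc) g trivial) (pZ.pg p2), G75.XZ_CJ, G75.XZ_CJ, coe_map, coe_map,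
    ← map_normalClosure _ _ sπ, ← map_normalClosure _ _ sπ, ← map_commutator, le_bot_iff, Subgroup.map_eq_bot_iff, kπ] at p
  refine cent_symm (G75.XZ_CJ T' ▸ ZD.XZ_le_of fun b _ hb => mem_C.2 fun a ha => ?_)
  have bN : b ∈ normalClosure (T' : Set G) := G75.XZ_CJ T' ▸ ZD.mem_XZ (mem_top _) hb
  obtain ⟨m, H⟩ := G75.CJ_two hS ((hS.pi.of_le h1.1).sup_l (pig_zpowers.2 ((G75.sc_CJ hS h2).two hb))
    (zpowers_le.2 (mem_N_of fun a i => by
      simpa using mul_mem (z1 (p ((commC _ _).le (comm_mem bN (subset_normalClosure i))))) i)))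
  have := mem_C_comm cm (H _ h1 _ (mem_sup_left ha) (G75.mem_CJ ha)) (H _ h2 _ (mem_sup_right (mem_zpowers b)) hb)
  rwa [conj_mul, conj_mul, mul_left_inj, mul_right_inj] at this

theorem C_le {M : Subgroup (MM N)} (d : dd ∈ M) : CC ≤ M := by
  rintro ⟨a, b, e, f⟩ ⟨rfl, rfl, rfl : a = b⟩
  obtain ⟨n, rfl⟩ := ZMod.intCast_surjective a
  induction n using Int.induction_on with
  | zero => convert one_mem M using 1; simp [one_df]
  | succ n ih => convert mul_mem ih d using 1; simp [mul_df, dd]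
  | pred n ih => convert mul_mem ih (inv_mem d) using 1; simp [mul_df, dd, inv_df, sub_eq_add_neg]

/-- the symmetric form of the hypotheses -/
structure Hy (hq : Qd q) (φ ψ : MM N →* G) : Prop where
  sy : Sy q φ
  e : ψ = φ.comp sig
  f : F1 q φ
  f' : F1 q ψ
  O : O'[(⊤ : Subgroup G)] = ⊥

/-- the centraliser of the normal closure of the other quaternion group -/
abbrev KK (hq : Qd q) (ψ : MM N →* G) : Subgroup G := C[normalClosure ((RR hq).map ψ : Set G)]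

theorem KK_n (hq : Qd q) : ⊤ ≤ N[KK hq ψ] := normC (norm_of_normal _)
theorem KK_le (hq : Qd q) : KK hq ψ ≤ C[(RR hq).map ψ] := centS le_normalClosure

namespace Hy
variable {hq : Qd q} (h : Hy hq φ ψ)
include h

theorem symm : Hy hq ψ φ := ⟨h.e ▸ h.sy.sig, by rw [h.e]; ext x; simp [sig_sig], h.f', h.f, h.O⟩
theorem ap (x : MM N) : ψ x = φ (sig x) := by rw [h.e]; rfl
theorem rg : ψ.range = φ.range := le_antisymm (by rintro _ ⟨x, rfl⟩; exact ⟨_, (h.ap x).symm⟩)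
  (by rintro _ ⟨x, rfl⟩; exact ⟨_, (h.symm.ap x).symm⟩)
theorem zz : ψ (zz q) = φ (zz q) := by rw [h.ap, sig_z hq]
theorem sc : IsStronglyClosed ((RR hq).map φ) φ.range := ⟨map_le_range _ _, by
  rintro _ ⟨x, i, rfl⟩ g j
  obtain ⟨y, a⟩ := mp_ex j
  exact (show _ = _ from a) ▸ mim (h.sy.sc h.f (h.e ▸ h.f') i a)⟩
theorem Zc : zpowers (φ (G2S.zz q)) ≤ C[(⊤ : Subgroup G)] :=
  zpowers_le.2 (mem_C.2 fun g _ => mul_inv_eq_iff_eq_mul.1 (h.sy.cz g))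
theorem ZR : zpowers (φ (G2S.zz q)) ≤ (RR hq).map φ := zpowers_le.2 (mim (C_R hq zz_C))
theorem z2 : φ (G2S.zz q) * φ (G2S.zz q) = 1 := by rw [← map_mul, hq.z_sq, map_one]
theorem mZ : φ x ∈ zpowers (φ (G2S.zz q)) ↔ x = 1 ∨ x = G2S.zz q := by
  rw [mem_zp2 h.z2, h.sy.inj.eq_iff, map_eq_one_iff _ h.sy.inj]
theorem disj : (RR hq).map φ ⊓ (RR hq).map ψ ≤ zpowers (φ (G2S.zz q)) := by
  rintro _ ⟨⟨x, i, rfl⟩, y, j, e⟩
  exact h.mZ.2 (R_disj hq i (by rw [← h.sy.inj ((h.ap y).symm.trans e), sig_sig]; exact j))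

theorem RK : (RR hq).map φ ≤ KK hq ψ := sp_quot h.sy.syl h.O h.Zc h.ZR (h.zz ▸ h.symm.ZR) h.sc (h.rg ▸ h.symm.sc)
  (le_C_iff.2 (by
    rintro _ ⟨x, i, rfl⟩ _ ⟨y, j, rfl⟩
    rw [h.ap, ← map_mul, ← map_mul, R_cm hq i j])) h.disj

theorem SK : φ.range ⊓ KK hq ψ = (RR hq).map φ := le_antisymm (by
  rintro _ ⟨⟨s, rfl⟩, i⟩
  have k : ∀ {y}, y ∈ RR hq → s * sig y = sig y * s := fun j => h.sy.inj (by
    rw [map_mul, map_mul, ← h.ap, mem_C.1 (KK_le hq i) _ (mim j)])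
  exact mim (R_cent hq (k (C_R hq ⟨rfl, rfl, rfl⟩)) (k (dq_R hq 0)))) (le_inf (map_le_range _ _) h.RK)

theorem small (n : ⊤ ≤ N[M]) (l : φ.range ⊓ M ≤ zpowers (φ (G2S.zz q))) : M ≤ zpowers (φ (G2S.zz q)) := by
  have p := (burnside p2 (h.sy.syl.inf_norm' le_top n)
    (cent_symm (l.trans (h.Zc.trans (centS le_top))))).idx
  rw [le_bot_iff.1 ((O_le_of_normal _ le_top n).trans h.O.le), relIndex_bot_left, compl_compl] at p
  exact (le_inf (h.sy.syl.le_of_norm' p le_top (le_top.trans n)) le_rfl).trans l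

theorem KK_inf : KK hq ψ ⊓ KK hq φ ≤ zpowers (φ (G2S.zz q)) := h.small (normI (KK_n hq) (KK_n hq)) (by
  rw [inf_inf_distrib_left, h.SK, ← h.rg, h.symm.SK]; exact h.disj)

theorem nrm (n : ⊤ ≤ N[M]) (l : ¬ (RR hq).map φ ≤ M) : (RR hq).map φ ⊓ M ≤ zpowers (φ (G2S.zz q)) := by
  have cj : ∀ {g x y}, Mp φ g x y → φ x ∈ M → φ y ∈ M := fun a i => Eq.subst a (conj_mem (n trivial) i)
  have d : ∀ a, φ (dq q a) ∉ M := fun a i => l (map_le_iff_le_comap.2 (R_gen hq fun b => by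
    obtain ⟨c, -, e⟩ := dq_cj hq a b
    exact cj (e ▸ mp_in c _) i))
  have c : φ (cc q) ∉ M := fun i => (h.sy.Dc (h.e ▸ h.f') 0).elim fun g a => d 0 (cj a.symm i)
  have k : ∀ m : ℕ, ∀ x ∈ RR hq, φ x ∈ M → φ x ^ 2 ^ m = 1 → x = 1 ∨ x = G2S.zz q := fun m => by
    induction m with
    | zero => exact fun x _ _ e => .inl (h.sy.inj (by simpa using e))
    | succ m ih =>
      intro x i j e
      rcases ih _ (mul_mem i i) (map_mul φ _ _ ▸ mul_mem j j) (by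
        rwa [map_mul, ← pow_two, ← pow_mul, ← pow_succ']) with e | e
      · exact R_inv hq i e
      rcases R_cases hq i with i | ⟨a, rfl⟩
      · rcases sqz_T hq (C_T i) e with rfl | rfl | rfl | rfl
        exacts [(c j).elim, (c (by simpa using j)).elim, ((sigc_nC hq).1 i).elim, ((sigc_nC hq).2 i).elim]
      · exact (d a j).elim
  rintro _ ⟨⟨x, i, rfl⟩, j⟩
  obtain ⟨m, e⟩ := (h.sy.syl.pi.elt ⟨x, rfl⟩).pow_eq_one p2
  exact h.mZ.2 (k m x i j e)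

theorem bad {M : Subgroup (KK hq ψ)} (i : M.index = 2) :
    KK hq ψ = (RR hq).map φ ∧ (dd = cc q ∨ dd = (cc q)⁻¹) := by
  have n : ⊤ ≤ N[(M.map (KK hq ψ).subtype).normalCore] := norm_of_normal _
  have l := normalCore_le (M.map (KK hq ψ).subtype)
  have s := h.SK ▸ h.sy.syl.inf_norm' le_top (KK_n hq)
  have z := h.small n ((le_inf ((inf_le_inf_left _ (l.trans (map_subtype_le _))).trans h.SK.le) inf_le_right).trans
    (h.nrm n fun e => Syl.not_dvd s p2 (Dvd.dvd.trans (by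
      rw [relIndex, subgroupOf, comap_map_eq_self_of_injective (subtype_injective _), i])
      (relIndex_dvd_left (e.trans l) _))))
  have sq : ∀ x ∈ KK hq ψ, x * x ∈ zpowers (φ (G2S.zz q)) := fun x j => z fun b =>
    ⟨_, mul_self_mem_of_index_two i ⟨_, conj_mem (KK_n hq (mem_top b)) j⟩, conj_mul⟩
  refine ⟨(s.eq_of_pig (pig_of_elts fun x j => (pin_pow_self p2 2).of_dvd (orderOf_dvd_of_pow_eq_one ?_))).symm,
    dd_cc hq (h.mZ.1 (map_mul φ _ _ ▸ sq _ (h.RK (mim (C_R hq ⟨rfl, rfl, rfl⟩)))))⟩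
  rw [pow_two, pow_mul, pow_two x]
  rcases (mem_zp2 h.z2).1 (sq x j) with e | e <;> rw [e]
  exacts [one_pow _, (pow_two _).trans h.z2]

theorem exA : ¬ DD G ≤ C[(RR hq).map φ] ⊔ (RR hq).map φ := fun l => by
  obtain ⟨g, a⟩ := h.sy.Dc (h.e ▸ h.f') 0
  obtain ⟨c, i, _, ⟨r, j, rfl⟩, e⟩ := (mem_sup_l (normC (normG _))).1 (l (comm_mem (mem_top g) (mem_top (φ xx))))
  have b : Mp φ (c * φ r) (cc q) (r * cc q * r⁻¹) := (mp_in r _).comp (by
    rw [Mp, ← mem_C.1 i _ (mim (nR hq r (C_R hq cc_C))), mul_inv_cancel_right])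
  have x1 : Mp φ (φ xx) (cc q) (cc q) := by simpa [T_ab (⟨rfl, rfl⟩ : xx ∈ TT) (C_T cc_C)] using mp_in (φ := φ) xx (cc q)
  have b : Mp φ g (xx * dq q 0 * xx⁻¹) (r * cc q * r⁻¹) := by
    simpa [← e] using (((mp_in xx (dq q 0)).symm.comp a).comp x1).comp b
  rcases cjC r (cc_C (q := q)) with k | k <;> rw [k] at b
  exacts [(x_dq hq).1 ((h.sy.iff b a).2 rfl), (x_dq hq).2 ((h.sy.iff b a.inv).2 rfl)]

theorem exB (e : KK hq ψ = (RR hq).map φ) (e' : KK hq φ = (RR hq).map ψ) (d : dd = cc q ∨ dd = (cc q)⁻¹) : False := by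
  have n := e ▸ KK_n (ψ := ψ) hq
  obtain ⟨g, u, a, uT, b, c⟩ : ∃ g u, Mp φ g (cc q * ww) u ∧ u ∈ TT ∧ Mp φ g (cc q) (cc q) ∧
      Mp φ g (dq q 0) (dq q 0) := by
    obtain ⟨g, u, v, a, hu, b, hv⟩ := h.sy.BA h.f
    have uT : u ∈ TT := by rcases hu with rfl | rfl <;> exact ⟨rfl, rfl⟩
    have vC : v ∈ CC := hv.elim (· ▸ cc_C) (· ▸ inv_mem cc_C)
    obtain ⟨y, i, c⟩ := conj_mem (n (mem_top g)) (mim (dq_R hq 0))
    have c : Mp φ g (dq q 0) y := c.symm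
    have dc : dq q 0 * (cc q)⁻¹ * (dq q 0)⁻¹ = cc q := by mm; grind
    obtain ⟨t, rfl⟩ := (R_cases hq i).resolve_left fun j => by
      have := h.sy.cm c.symm b.symm (T_ab (C_T j) (C_T vC))
      have := hq.ne
      mm at *; grind
    obtain ⟨s, sT, k⟩ := dq_cj hq t 0
    have b := b.cj s
    rw [T_ab sT (C_T vC), mul_inv_cancel_right] at b
    rcases hv with rfl | rfl
    · exact ⟨_, _, a.cj s, nT _ uT, b, k ▸ c.cj s⟩
    · exact ⟨_, _, (a.cj s).cj (dq q 0), nT _ (nT _ uT), by simpa only [dc] using b.cj (dq q 0), by simpa [k] using (c.cj s).cj (dq q 0)⟩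
  have m : ∀ {x}, Mp φ g x x → x ∈ C1[g].comap φ := fun a => mem_C1'.2 (mul_inv_eq_iff_eq_mul.1 a)
  have gC : g ∈ C[(RR hq).map φ] := le_C1_iff.1 (map_le_iff_le_comap.2 (R_gen hq fun t => by
    convert mul_mem (C_le (d.elim (· ▸ m b) (· ▸ inv_mem (m b))) (⟨rfl, rfl, rfl⟩ : (⟨t, t, false, false⟩ : MM N) ∈ CC))
      (m c) using 1
    mm; grind))
  have := normal_iff.2 n
  obtain ⟨s, rfl⟩ := (e'.le.trans ((map_le_range _ _).trans h.rg.le)) (by rwa [KK, normalClosure_eq_self])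
  have := nT s⁻¹ ((h.sy.iff (mp_in s _) a).1 rfl ▸ uT)
  rw [show s⁻¹ * (s * (cc q * ww) * s⁻¹) * s⁻¹⁻¹ = cc q * ww by group] at this
  cases this.2

theorem CL (n : ⊤ ≤ N[L]) (r : (RR hq).map φ ≤ L) : C[L] ≤ KK hq φ :=
  have := normal_iff.2 n
  centS (normalClosure_le_normal r)

theorem good (hN : N = 4 * 2 ^ k) :
    ∃ L : Subgroup G, ⊤ ≤ N[L] ∧ IsSL L ∧ (RR hq).map φ ≤ L ∧ L ≤ KK hq ψ ∧ L ≤ DD G := by
  refine h.sy.good hN h.O (KK_n hq) h.SK fun M i => ?_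
  obtain ⟨e, d⟩ := h.bad i
  by_cases c : ∀ M : Subgroup (KK hq φ), M.index ≠ 2
  · obtain ⟨L, n, s, r, l, -⟩ := h.symm.sy.good hN h.O (KK_n hq) h.symm.SK c
    exact h.exA ((out_comm n s).trans (sup_le_sup (l.trans (KK_le hq)) ((h.symm.CL n r).trans e.le)))
  · push Not at c
    obtain ⟨M, i⟩ := c
    exact h.exB e (h.symm.bad i).1 d

theorem core (hN : N = 4 * 2 ^ k) : ∃ L₁ L₂ : Subgroup G, L₁.Normal ∧ L₂.Normal ∧ IsSL L₁ ∧ IsSL L₂ ∧
    ⁅L₁, L₂⁆ = ⊥ ∧ L₁ ⊔ L₂ = commutator G := by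
  obtain ⟨L, n, s, r, l, d⟩ := h.good hN
  obtain ⟨L', n', s', r', l', d'⟩ := h.symm.good hN
  have c : L ≤ C[L'] := inf_eq_left.1 (no2 s.no2 inf_le_left (normI (normG _) (normC (le_top.trans n')))
    (pin_relIndex_of_pig fun r hr r2 Q lQ p a i => ⟨lQ i, SE.mem_of_sq_mem (Nat.not_even_iff_odd.1 fun e =>
      r2 ((p.elt i).eq_prime p2 (even_iff_two_dvd.1 e)).symm) (mem_C.2 fun b j => ?_)⟩))
  · refine ⟨L, L', normal_iff.2 n, normal_iff.2 n', s, s', comm_eq_bot.2 c, le_antisymm (sup_le d d') fun u i => ?_⟩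
    obtain ⟨a, ha, b, hb, e⟩ := (mem_sup_l (C_le_N _)).1 (out_comm n s i)
    obtain ⟨a', ha', b', hb', rfl⟩ := (mem_sup_l (C_le_N _)).1 (out_comm n' s' i)
    refine mul_mem (mem_sup_right ha') (mem_sup_left ?_)
    have : a⁻¹ * b' ∈ L := r (h.ZR (h.KK_inf (mem_inf.2 ⟨mul_mem (inv_mem (l ha)) (h.symm.CL n' r' hb'), by
      rw [show a⁻¹ * b' = b * a'⁻¹ by rw [inv_mul_eq_iff_eq_mul, ← mul_assoc, ← e, mem_C.1 hb' a' ha']; group]
      exact mul_mem (h.CL n r hb) (inv_mem (l' ha'))⟩)))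
    simpa using mul_mem ha this
  · have z := h.KK_inf ⟨l (commL (le_top.trans n) (comm_mem (lQ i) j)), l' (commR (le_top.trans n') (comm_mem (lQ i) j))⟩
    have z1 := mem_C.1 (h.Zc z) a trivial
    have z2 : a * b * a⁻¹ * b⁻¹ * (a * b * a⁻¹ * b⁻¹) = 1 := by
      rcases (mem_zp2 h.z2).1 z with e | e <;> rw [e]
      exacts [one_mul _, h.z2]
    generalize e : a * b * a⁻¹ * b⁻¹ = c at z1 z2
    have e' : a * b = c * b * a := by rw [← e]; group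
    rw [mul_assoc a a, e', ← mul_assoc, ← mul_assoc, ← mul_assoc a, z1, mul_assoc c a, e', ← mul_assoc, ← mul_assoc, z2]
    group

end Hy

end Cfsg.Agent.G2C
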