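import Cfsg.Agent.Blk.G2S2
import Cfsg.Agent.BG.Base3
import Cfsg.Agent.Inv.QD
/-! The Sylow 2-subgroup of `G₂(q)`: its two quaternion subgroups. -/
set_option autoImplicit false
set_option linter.unusedVariables false
set_option linter.unusedSectionVars false
set_option linter.unusedSimpArgs false
set_option linter.unusedTactic false
set_option linter.unreachableTactic false

namespace Cfsg.Agent.G2C
open Cfsg.Agent.G2S Cfsg.Agent.BG Subgroup

variable {N : ℕ} {q : ZMod N} {s u x y : MM N}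

def cc (q : ZMod N) : MM N := ⟨q, q, false, false⟩
def ii : MM N := ⟨0, 0, true, false⟩
def xx : MM N := ⟨1, 0, false, false⟩
def x0 : MM N := ⟨1, 0, false, true⟩
def oo (q : ZMod N) : MM N := ⟨1 + (q + q), 0, true, false⟩
def dq (q a : ZMod N) : MM N := ⟨a + (q + q), a, true, true⟩

def sig : MM N →* MM N := MonoidHom.mk' (fun g => ⟨g.a, -g.b, xor g.e g.f, g.f⟩) (by
  rintro ⟨a, b, e, f⟩ ⟨a', b', e', f'⟩
  cases e <;> cases f <;> cases e' <;> cases f' <;> simp [mul_df] <;> ring)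
theorem sig_df (g : MM N) : sig g = ⟨g.a, -g.b, xor g.e g.f, g.f⟩ := rfl

def pT (g : MM N) : Prop := g.e = false ∧ g.f = false
def pC (g : MM N) : Prop := g.e = false ∧ g.f = false ∧ g.a = g.b
def pR (q : ZMod N) (g : MM N) : Prop := g.e = g.f ∧ g.a = g.b + cond g.e (q + q) 0
def pP (q : ZMod N) (g : MM N) : Prop := g.a = g.b + cond (xor g.e g.f) 1 0 + cond g.e (q + q) 0

/-- expand everything -/
macro "mm" l:(Lean.Parser.Tactic.location)? : tactic => `(tactic| simp only [mul_df, one_df, inv_df, sig_df, tt, zz, ww,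
  dd, cc, ii, xx, x0, oo, dq, pT, pC, pR, pP, sg_f, sg_t, cond_false, cond_true, MM.mk.injEq, Bool.xor_false,
  Bool.xor_true, Bool.not_false, Bool.not_true, and_true, true_and, and_false, false_and, reduceCtorEq, ne_eq,
  Bool.true_eq_false, Bool.false_eq_true, or_false, false_or, not_false_eq_true, not_true_eq_false, true_or, or_true,
  and_self] $[$l]?)

theorem sig_sig (g : MM N) : sig (sig g) = g := by
  obtain ⟨a, b, e, f⟩ := g
  cases e <;> cases f <;> simp [sig_df]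

def TT : Subgroup (MM N) where
  carrier := {g | pT g}
  mul_mem' := by rintro ⟨a, b, e, f⟩ ⟨a', b', e', f'⟩ ⟨rfl, rfl⟩ ⟨rfl, rfl⟩; exact ⟨rfl, rfl⟩
  one_mem' := ⟨rfl, rfl⟩
  inv_mem' := id
def CC : Subgroup (MM N) where
  carrier := {g | pC g}
  mul_mem' := by rintro ⟨a, b, e, f⟩ ⟨a', b', e', f'⟩ ⟨rfl, rfl, rfl : a = b⟩ ⟨rfl, rfl, rfl : a' = b'⟩; exact ⟨rfl, rfl, rfl⟩
  one_mem' := ⟨rfl, rfl, rfl⟩
  inv_mem' := by rintro ⟨a, b, e, f⟩ ⟨rfl, rfl, rfl : a = b⟩; exact ⟨rfl, rfl, rfl⟩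
def RR (h : Qd q) : Subgroup (MM N) where
  carrier := {g | pR q g}
  mul_mem' := by
    rintro ⟨a, b, e, f⟩ ⟨a', b', e', f'⟩ (i : pR _ _) (j : pR _ _)
    have := h.four
    show pR _ _
    cases e <;> cases f <;> cases e' <;> cases f' <;> mm at i j ⊢ <;> grind
  one_mem' := ⟨rfl, (add_zero _).symm⟩
  inv_mem' := by
    rintro ⟨a, b, e, f⟩ (i : pR _ _)
    have := h.four
    show pR _ _
    cases e <;> cases f <;> mm at i ⊢ <;> grind
def PP (h : Qd q) : Subgroup (MM N) where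
  carrier := {g | pP q g}
  mul_mem' := by
    rintro ⟨a, b, e, f⟩ ⟨a', b', e', f'⟩ (i : pP _ _) (j : pP _ _)
    have := h.four
    show pP _ _
    cases e <;> cases f <;> cases e' <;> cases f' <;> mm at i j ⊢ <;> grind
  one_mem' := by show pP _ _; mm; simp
  inv_mem' := by
    rintro ⟨a, b, e, f⟩ (i : pP _ _)
    have := h.four
    show pP _ _
    cases e <;> cases f <;> mm at i ⊢ <;> grind

theorem mT : x ∈ (TT : Subgroup (MM N)) ↔ pT x := Iff.rfl
theorem mC : x ∈ (CC : Subgroup (MM N)) ↔ pC x := Iff.rfl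
theorem mR {h : Qd q} : x ∈ RR h ↔ pR q x := Iff.rfl
theorem mP {h : Qd q} : x ∈ PP h ↔ pP q x := Iff.rfl

theorem C_T (i : x ∈ CC) : x ∈ TT := ⟨i.1, i.2.1⟩
theorem T_ab (i : x ∈ TT) (j : y ∈ TT) : x * y = y * x := by
  obtain ⟨a, b, e, f⟩ := x
  obtain ⟨a', b', e', f'⟩ := y
  obtain ⟨rfl, rfl⟩ := i
  obtain ⟨rfl, rfl⟩ := j
  mm; grind
theorem nT (s : MM N) (i : x ∈ TT) : s * x * s⁻¹ ∈ TT := by
  obtain ⟨a, b, e, f⟩ := x
  obtain ⟨rfl, rfl⟩ := i
  exact ⟨by simp [mul_df, inv_df], by simp [mul_df, inv_df]⟩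
theorem cjC (s : MM N) (i : x ∈ CC) : s * x * s⁻¹ = x ∨ s * x * s⁻¹ = x⁻¹ := by
  obtain ⟨a, b, e, f⟩ := x
  obtain ⟨a', b', e', f'⟩ := s
  obtain ⟨rfl, rfl, rfl : a = b⟩ := i
  cases e' <;> cases f' <;> mm <;> grind
theorem iC (i : x ∈ TT) : ii * x * ii⁻¹ = x⁻¹ := by
  obtain ⟨a, b, e, f⟩ := x
  obtain ⟨rfl, rfl⟩ := i
  mm; grind
theorem sqT (x : MM N) : x * x ∈ TT := ⟨by simp [mul_df], by simp [mul_df]⟩
theorem sq_i (i : x.f = false) (j : x ∉ TT) : x * x = 1 := by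
  obtain ⟨a, b, e, f⟩ := x
  rw [mT] at j
  cases e <;> cases f <;> mm at i j ⊢ <;> grind
theorem cc_sq : cc q * cc q = zz q := rfl
theorem cc_C : cc q ∈ CC := ⟨rfl, rfl, rfl⟩
theorem zz_C : zz q ∈ CC := ⟨rfl, rfl, rfl⟩
theorem tt_T : tt q ∈ TT := ⟨rfl, rfl⟩
theorem sig_t : sig (tt q) = tt q := by mm; simp
/-- elements of swap type -/
theorem B_cm (i : x ∈ CC) (e : y.e = false) : y * x = x * y := by
  obtain ⟨a, b, e, f⟩ := x
  obtain ⟨a', b', e', f'⟩ := y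
  obtain ⟨rfl, rfl, rfl : a = b⟩ := i
  cases e' <;> cases f' <;> mm at e ⊢ <;> grind
theorem B_cj (e : y.e = false) (f : y.f = true) (e' : u.e = false) (f' : u.f = true) (k : y * y = u * u) :
    ∃ c ∈ TT, c * y * c⁻¹ = u := by
  obtain ⟨a, b, e, f⟩ := y
  obtain ⟨a', b', e', f'⟩ := u
  cases e; cases f; cases e'; cases f'
  refine ⟨⟨a' - a, 0, false, false⟩, ⟨rfl, rfl⟩, ?_⟩
  mm at k ⊢; grind
theorem B_sq (e : y.e = false) (f : y.f = true) : y * y ∈ CC := by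
  obtain ⟨a, b, e, f⟩ := y
  cases e; cases f
  rw [mC]; mm; grind
theorem B_i (e : y.e = false) (f : y.f = true) : (ii * y * ii⁻¹).e = false ∧ (ii * y * ii⁻¹).f = true := by
  simp [mul_df, inv_df, ii, e, f]

variable (h : Qd q)
include h

theorem one_ne : (1 : ZMod N) ≠ 0 ∧ (1 : ZMod N) ≠ q + q := by
  have := h.ne
  have := h.four
  grind
theorem sig_z : sig (zz q) = zz q := by have := h.four; mm; grind
theorem C_R (i : x ∈ CC) : x ∈ RR h := by
  obtain ⟨a, b, e, f⟩ := x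
  obtain ⟨rfl, rfl, rfl : a = b⟩ := i
  rw [mR]; mm; simp
theorem R_P (i : x ∈ RR h) : x ∈ PP h := by
  obtain ⟨a, b, e, f⟩ := x
  rw [mR] at i; rw [mP]
  cases e <;> cases f <;> mm at i ⊢ <;> grind
theorem dq_R (a : ZMod N) : dq q a ∈ RR h := ⟨rfl, rfl⟩
theorem dq_sq (a : ZMod N) : dq q a * dq q a = zz q := by have := h.four; mm; grind
theorem R_cases (i : x ∈ RR h) : x ∈ CC ∨ ∃ a, x = dq q a := by
  obtain ⟨a, b, e, f⟩ := x
  rw [mR] at i; rw [mC]
  cases e <;> cases f <;> mm at i ⊢ <;> grind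
theorem nR (s : MM N) (i : x ∈ RR h) : s * x * s⁻¹ ∈ RR h := by
  obtain ⟨a, b, e, f⟩ := x
  obtain ⟨a', b', e', f'⟩ := s
  have := h.four
  rw [mR] at *
  cases e <;> cases f <;> cases e' <;> cases f' <;> mm at i ⊢ <;> grind
theorem C_inv (i : x ∈ CC) (e : x * x = 1) : x = 1 ∨ x = zz q := by
  obtain ⟨a, b, e, f⟩ := x
  obtain ⟨rfl, rfl, rfl : a = b⟩ := i
  have := h.two a
  mm at e ⊢; grind
theorem R_inv (i : x ∈ RR h) (e : x * x = 1) : x = 1 ∨ x = zz q :=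
  (R_cases h i).elim (C_inv h · e) fun ⟨a, k⟩ => (h.z_ne ((dq_sq h a).symm.trans (k ▸ e))).elim
theorem T_inv (i : x ∈ TT) (e : x * x = 1) : x = 1 ∨ x = zz q ∨ x = tt q ∨ x = tt q * zz q := by
  obtain ⟨a, b, e, f⟩ := x
  obtain ⟨rfl, rfl⟩ := i
  have := h.two a
  have := h.two b
  have := h.four
  mm at e ⊢; grind
theorem c_t (k : s * tt q = tt q * s) : s.f = false := by
  obtain ⟨a, b, e, f⟩ := s
  have := h.ne
  have := h.four
  cases e <;> cases f <;> mm at k ⊢ <;> grind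
theorem w_t : ww * tt q * ww⁻¹ = tt q * zz q := by have := h.four; mm; grind
theorem sqz_T (i : u ∈ TT) (e : u * u = zz q) :
    u = cc q ∨ u = (cc q)⁻¹ ∨ u = sig (cc q) ∨ u = (sig (cc q))⁻¹ := by
  obtain ⟨a, b, e, f⟩ := u
  obtain ⟨rfl, rfl⟩ := i
  have k : ∀ a, a + a = q + q → a = q ∨ a = -q := fun a e => (h.two (a - q) (by linear_combination e)).imp
    (fun i => by linear_combination i) fun i => by linear_combination i + h.four
  mm at e ⊢
  have := k a e.1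
  have := k b e.2
  grind
theorem sqz (k : u * u = zz q) : u ∈ TT ∨ u ∈ RR h ∨ (u.e = false ∧ u.f = true) := by
  obtain ⟨a, b, e, f⟩ := u
  have := h.ne
  rw [mT, mR]
  cases e <;> cases f <;> mm at k ⊢ <;> grind
theorem sigc_nC : sig (cc q) ∉ CC ∧ (sig (cc q))⁻¹ ∉ CC := by
  have := h.ne
  rw [mC, mC]; mm; grind
theorem D_sq (e : y.e = true) (f : y.f = true) (i : y * y ∈ CC) : y * y = 1 ∨ y * y = zz q := by
  obtain ⟨a, b, e, f⟩ := y
  cases e; cases f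
  have := h.two (a - b)
  have := h.four
  rw [mC] at i; mm at i ⊢; grind
theorem bt : cc q * tt q = (sig (cc q))⁻¹ ∧ (cc q)⁻¹ * tt q = sig (cc q) := by have := h.four; mm; grind
theorem cw_sq : cc q * ww * (cc q * ww) = zz q := by mm; grind
theorem B_inv (e : y.e = false) (f : y.f = true) (i : x ∈ TT) (c : y * x = x * y) : x ∈ CC := by
  obtain ⟨a, b, e, f⟩ := y
  obtain ⟨a', b', e', f'⟩ := x
  cases e; cases f
  obtain ⟨rfl, rfl⟩ := i
  rw [mC]; mm at c ⊢; grind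
theorem R_cm (i : x ∈ RR h) (j : y ∈ RR h) : x * sig y = sig y * x := by
  obtain ⟨a, b, e, f⟩ := x
  obtain ⟨a', b', e', f'⟩ := y
  have := h.four
  rw [mR] at *
  cases e <;> cases f <;> cases e' <;> cases f' <;> mm at i j ⊢ <;> grind
theorem R_cent (i : s * sig dd = sig dd * s) (j : s * sig (dq q 0) = sig (dq q 0) * s) : s ∈ RR h := by
  obtain ⟨a, b, e, f⟩ := s
  have := h.four
  have := h.ne
  rw [mR]
  cases e <;> cases f <;> mm at i j ⊢ <;> grind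
theorem R_disj (i : x ∈ RR h) (j : sig x ∈ RR h) : x = 1 ∨ x = zz q := by
  obtain ⟨a, b, e, f⟩ := x
  have := h.two a
  have := h.four
  rw [mR] at *
  cases e <;> cases f <;> mm at i j ⊢ <;> grind
theorem R_gen {M : Subgroup (MM N)} (k : ∀ a, dq q a ∈ M) : RR h ≤ M := fun x i => by
  rcases R_cases h i with j | ⟨a, rfl⟩
  · obtain ⟨a, b, e, f⟩ := x
    obtain ⟨rfl, rfl, rfl : a = b⟩ := j
    convert mul_mem (k (a + (q + q))) (k 0) using 1
    have := h.four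
    mm; grind
  · exact k a
theorem dq_cj (a b : ZMod N) : ∃ c ∈ TT, c * dq q a * c⁻¹ = dq q b :=
  ⟨⟨b - a, 0, false, false⟩, ⟨rfl, rfl⟩, by mm; grind⟩
theorem x_dq : xx * dq q 0 * xx⁻¹ ≠ dq q 0 ∧ xx * dq q 0 * xx⁻¹ ≠ (dq q 0)⁻¹ := by
  have := one_ne h
  have := h.four
  mm; grind
theorem dd_cc (e : (dd * dd : MM N) = 1 ∨ dd * dd = zz q) : dd = cc q ∨ dd = (cc q)⁻¹ := by
  have := h.two (q - 1)
  have := h.four
  have := h.ne
  mm at e ⊢; grind
theorem P_sq (i : x ∈ PP h) : x ∈ RR h ∨ x * oo q ∈ RR h := by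
  obtain ⟨a, b, e, f⟩ := x
  have := h.four
  rw [mP] at i; rw [mR, mR]
  cases e <;> cases f <;> mm at i ⊢ <;> grind

end Cfsg.Agent.G2C
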