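import Cfsg.Agent.G2C.F
import Cfsg.Agent.GW.QG2
/-! A normal subgroup with Sylow subgroup the quaternion group `RR` and no subgroup of index 2. -/
set_option autoImplicit false
set_option linter.unusedVariables false
set_option linter.unusedSectionVars false

namespace Cfsg.Agent.G2C
open Cfsg.Agent.G2S Cfsg.Agent.BG Cfsg.Agent.GW Subgroup
open scoped commutatorElement

section
open Cfsg Cfsg.Agent.Dih PHom Cfsg.Agent.Class
universe u
variable {G : Type u} [Group G] [Finite G] {S K : Subgroup G}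

theorem qg_sol (hS : Syl 2 S ⊤) (z : ZD S) (hO : O'[(⊤ : Subgroup G)] = ⊥) (hZ : Z[S] ≤ C[(⊤ : Subgroup G)])
    (nK : ⊤ ≤ N[K]) (iK : PiN {2} (K.relIndex ⊤)) (h2 : ∀ M : Subgroup K, M.index ≠ 2) (K1 : K ≠ ⊥)
    (u : UI K) (s : Sol (⊤ : Subgroup G)) : #K ≤ 24 := by
  have p2 := Nat.prime_two
  have nZ : Z[S].Normal := normal_iff.2 (cents_norm (cent_symm hZ))
  have cZ : Z[S] ≤ center G := fun c hc => mem_center_iff.2 fun g => mem_C.1 (hZ hc) g trivial
  have pZ : PiG {2} Z[S] := hS.pi.of_le inf_le_left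
  obtain ⟨Y, _, _, π, kπ, sπ, hO'⟩ : ∃ (Y : Type u) (_ : Group Y) (_ : Finite Y) (π : G →* Y),
      π.ker = Z[S] ∧ Function.Surjective π ∧ O'[(⊤ : Subgroup Y)] = ⊥ :=
    ⟨_, _, inferInstance, QuotientGroup.mk' Z[S], QuotientGroup.ker_mk' _, QuotientGroup.mk'_surjective _, by
      rw [← pPrimeCore_eq p2] at hO ⊢
      exact pPrimeCore_quotient_central hO cZ (pZ.pg p2)⟩
  have tπ := map_top_of_surjective _ sπ
  obtain ⟨x, y, l, d⟩ := z.dh π kπ
  have d := DH_dt d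
  have hS' := tπ ▸ hS.map π
  have dg := d.dg hS'
  have k2 : ∀ c ∈ DD G ⊓ Z[S], c * c = 1 := fun c hc => z.der c hc.2
    (PLoc.mem_commutator_of_central hc.2.1 (cZ hc.2) hc.1 (relIndex_top_right S ▸ hS.coprime))
  have k4 : #(DD G ⊓ Z[S]) ∣ 2 := UI.card (fun a ha b hb => z.ui a ha.2 b hb.2) k2
  have k3 : ¬ S.map π ≤ K.map π := fun e => z.nle K (le_top.trans nK) u (kπ ▸ map_le_map_iff.1 e)
  have k5 : ∀ L : Subgroup G, (∀ M : Subgroup L, M.index ≠ 2) → L ≤ K := fun L h =>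
    inf_eq_left.1 (no2 h inf_le_left (normI (normG _) (le_top.trans nK)) (by
      rw [inf_relIndex_left]; exact iK.of_dvd (relIndex_dvd_of_norm le_top le_top (le_top.trans nK))))
  have nK' : ⊤ ≤ N[K.map π] := tπ ▸ norm_map nK π
  have iK' : PiN {2} ((K.map π).relIndex ⊤) := iK.of_dvd (by
    rw [relIndex_top_right, relIndex_top_right]; exact index_map_dvd _ sπ)
  have cm : ∀ A : Subgroup G, #(A ⊓ Z[S]) * #(A.map π) = #A := fun A => by
    rw [← kπ, ← tot_ker, ← tot_im]; exact card_im_mul le_top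
  have dm : (DD G).map π = DD _ := by rw [map_commutator, tπ]
  have s : Sol (⊤ : Subgroup Y) := tπ ▸ s.map π
  have cV := C_O_le (π := {2}) s hO'
  have pV := O_pig {2} (⊤ : Subgroup Y)
  have nV := O_norm {2} (⊤ : Subgroup Y)
  obtain ⟨g, hg, o, g1⟩ : ∃ g ∈ K, PiE {2}ᶜ g ∧ g ≠ 1 := by
    by_contra! e
    exact K1 (no2 h2 bot_le (norm_bot _) (by
      rw [relIndex_bot_left]
      exact pig_of_prime_elts fun x hx p => by_contra fun c => by
        simp [e x hx ((pin_prime p).2 c), Nat.not_prime_one] at p)).symm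
  have kV := (dg.odd_or pV (nV (mem_top (π g))) (odd_iff.1 (o.map π))).resolve_left fun e =>
    g1 ((pZ.elt (kπ ▸ (pV.elt (cV ⟨trivial, e⟩)).eq_one (o.map π))).eq_one o)
  have c1 : #(⊤ : Subgroup Y) ∣ 4 * 6 := by
    rw [← card_mul_relIndex (O_le {2} ⊤), kV.card_four]
    exact Nat.mul_dvd_mul_left _ ((relIndex_dvd_left ((top_inf_eq _).ge.trans cV) _).trans (Inv.kf_relIndex_dvd_six kV nV))
  have c2 := card_mul_relIndex (le_top : K.map π ≤ ⊤)
  obtain ⟨i, c3⟩ : 2 ∣ (K.map π).relIndex ⊤ := by_contra fun e => k3 (le_top.trans (relIndex_eq_one.1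
    (Core.IsPiNum.eq_one iK' ((pin_compl p2).2 e))))
  have c4 : #(K.map π) * i ∣ 12 := Nat.dvd_of_mul_dvd_mul_left two_pos (by
    rwa [← c2, c3, mul_left_comm] at c1)
  have c5 : #(K ⊓ Z[S]) ∣ 2 := (cardS (le_inf (((pZ.of_le inf_le_right).le_of_idx (der_norm K)
    inf_le_left (odd_ab h2)).trans (derS le_top)) inf_le_right)).trans k4
  have c6 : #K ≤ 24 := cm K ▸ Nat.mul_le_mul (Nat.le_of_dvd two_pos c5)
    (Nat.le_of_dvd (by norm_num) (Dvd.dvd.trans (Dvd.intro _ rfl) c4))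
  exact c6

theorem qg2 (hS : Syl 2 S ⊤) (z : ZD S) (hO : O'[(⊤ : Subgroup G)] = ⊥) (hZ : Z[S] ≤ C[(⊤ : Subgroup G)])
    (nK : ⊤ ≤ N[K]) (iK : PiN {2} (K.relIndex ⊤)) (h2 : ∀ M : Subgroup K, M.index ≠ 2) (K1 : K ≠ ⊥)
    (u : UI K) : IsSL (DD G) ∧ (DD G = ⁅K, K⁆ ∨ DD G = K) := by
  have h := (qg hS z hO hZ nK iK h2 K1 u).1
  have l : DD G ≤ K := inf_eq_left.1 (no2 h.no2 inf_le_left (normI (normG _) (le_top.trans nK)) (by
    rw [inf_relIndex_left]; exact iK.of_dvd (relIndex_dvd_of_norm le_top le_top (le_top.trans nK))))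
  refine ⟨h, h.cases.2.symm.imp (fun e => le_antisymm (e.ge.trans (derS l)) (derS le_top)) fun s => ?_⟩
  have : Group.IsSolvable (DD G) := s
  have : Group.IsSolvable G := Group.isSolvable_of_ker_le_range (DD G).subtype Abelianization.of
    (by rw [Abelianization.ker_of, range_subtype]; rfl)
  exact eq_of_card_le l ((qg_sol hS z hO hZ nK iK h2 K1 u (sol_top.2 this)).trans h.cases.1)
end

variable {G : Type*} [Group G] [Finite G] {N k : ℕ} {q : ZMod N} {φ : MM N →* G} {K : Subgroup G}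

theorem dd_zpow (n : ℤ) : (dd : MM N) ^ n = ⟨n, n, false, false⟩ := by
  induction n using Int.induction_on with
  | zero => simp [one_df]
  | succ n ih => rw [zpow_add_one, ih]; mm; simp
  | pred n ih => rw [zpow_sub_one, ih]; mm; simp [sub_eq_add_neg]
theorem x0_even (n : ℤ) : (x0 : MM N) ^ (2 * n) = ⟨n, n, false, false⟩ := by
  rw [zpow_mul, zpow_two, show (x0 * x0 : MM N) = dd by mm; simp, dd_zpow]
theorem x0_odd (n : ℤ) : (x0 : MM N) ^ (2 * n + 1) = ⟨n + 1, n, false, true⟩ := by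
  rw [zpow_add_one, x0_even]; mm; simp

theorem half (h : Qd q) (hN : N = 4 * 2 ^ k) : ((2 * (2 ^ k : ℕ) : ℤ) : ZMod N) = q + q := by
  refine (h.two _ ?_).resolve_left fun e => ?_
  · rw [← Int.cast_add, ZMod.intCast_zmod_eq_zero_iff_dvd, hN]; exact ⟨1, by push_cast; ring⟩
  · rw [ZMod.intCast_zmod_eq_zero_iff_dvd, hN] at e
    have := Int.le_of_dvd (by positivity) e
    have : (0 : ℤ) < 2 ^ k := by positivity
    push_cast at *
    omega

theorem qdP {Y : Type*} [Group Y] [Finite Y] {S : Subgroup Y} {x y : Y} {f : Y →* G} (h : Sy q φ) (hN : N = 4 * 2 ^ k)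
    (hf : Function.Injective f) (hx : f x = φ x0) (hy : f y = φ (oo q)) (hS : ∀ g, g ∈ S ↔ f g ∈ (PP h.qd).map φ) :
    Inv.QD S x y (2 ^ k) := by
  have h4 := h.qd.four
  refine ⟨⟨k, rfl⟩, ord_of_zpow fun j => ?_, hf ?_, hf ?_, fun g => (hS g).trans ⟨?_, ?_⟩⟩
  · rw [← hf.eq_iff, map_zpow, hx, ← map_zpow, map_one, ← map_one φ, h.inj.eq_iff]
    obtain ⟨n, rfl | rfl⟩ := Int.even_or_odd' j
    · rw [x0_even]; mm
      rw [ZMod.intCast_zmod_eq_zero_iff_dvd, hN, show ((8 * 2 ^ k : ℕ) : ℤ) = 2 * (4 * 2 ^ k : ℕ) by push_cast; ring,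
        mul_dvd_mul_iff_left two_ne_zero]
    · rw [x0_odd]; mm
      refine ⟨False.elim, fun ⟨c, e⟩ => ?_⟩
      push_cast at e
      rw [mul_assoc] at e
      omega
  · rw [map_mul, hy, ← map_mul, map_one, sq_i rfl (by rw [mT]; mm), map_one]
  · rw [map_mul, map_mul, map_inv, map_zpow, hx, hy, ← map_inv, ← map_mul, ← map_mul, ← map_zpow,
      show (4 * ((2 ^ k : ℕ) : ℤ) - 1) = 2 * (2 * (2 ^ k : ℕ) - 1) + 1 by ring, x0_odd, Int.cast_sub, half h.qd hN]
    congr 1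
    mm; grind
  · rintro ⟨⟨a, b, e, f⟩, i, j⟩
    simp only [← hf.eq_iff (a := g), map_mul, map_zpow, hx, hy, ← j]
    simp only [← map_zpow, ← map_mul, h.inj.eq_iff]
    replace i : pP _ _ := i
    obtain ⟨n, rfl⟩ := ZMod.intCast_surjective b
    cases e <;> cases f <;> mm at i
    · exact ⟨2 * n, .inl (by rw [x0_even]; mm; grind)⟩
    · exact ⟨2 * n + 1, .inl (by rw [x0_odd]; mm; grind)⟩
    · exact ⟨2 * n, .inr (by rw [x0_even]; mm; grind)⟩
    · obtain ⟨m, e⟩ := ZMod.intCast_surjective (a - 1)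
      exact ⟨2 * m + 1, .inr (by rw [x0_odd, e]; mm; grind)⟩
  · have i : x0 ∈ PP h.qd := by rw [mP]; mm; simp
    have j : oo q ∈ PP h.qd := by rw [mP]; mm; simp
    rintro ⟨n, rfl | rfl⟩
    · rw [map_zpow, hx]; exact zpow_mem (mim i) n
    · rw [map_mul, map_zpow, hx, hy]; exact mul_mem (zpow_mem (mim i) n) (mim j)

theorem Sy.good (h : Sy q φ) (hN : N = 4 * 2 ^ k) (hO : O'[(⊤ : Subgroup G)] = ⊥) (nK : ⊤ ≤ N[K])
    (hK : φ.range ⊓ K = (RR h.qd).map φ) (h2 : ∀ M : Subgroup K, M.index ≠ 2) :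
    ∃ L : Subgroup G, ⊤ ≤ N[L] ∧ IsSL L ∧ (RR h.qd).map φ ≤ L ∧ L ≤ K ∧ L ≤ DD G := by
  have sR : Syl 2 ((RR h.qd).map φ) K := hK ▸ h.syl.inf_norm' le_top nK
  set P := (PP h.qd).map φ with hP
  have RP : (RR h.qd).map φ ≤ P := map_mono fun x => R_P h.qd
  have PK : P ⊓ K = (RR h.qd).map φ :=
    le_antisymm (hK ▸ inf_le_inf_right K (map_le_range _ _)) (le_inf RP sR.le)
  have pr : IsProd P K (P ⊔ K) := isProd_r (le_top.trans nK)
  have sP : Syl 2 P (P ⊔ K) := ⟨le_sup_left, h.pig _, by rw [pr.relIndex, ← inf_relIndex_right, PK]; exact sR.idx⟩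
  have iK : PiN {2} (K.relIndex (P ⊔ K)) := by
    rw [sup_comm, relIndex_sup_l (le_top.trans nK)]; exact (h.pig _).relIndex K
  generalize hΓ : P ⊔ K = Γ at pr sP iK
  have KΓ := pr.right
  have mx : φ x0 ∈ Γ := sP.le (mim (by rw [mP]; mm; simp))
  have my : φ (oo q) ∈ Γ := sP.le (mim (by rw [mP]; mm; simp))
  have d := qdP (S := P.subgroupOf Γ) (x := ⟨_, mx⟩) (y := ⟨_, my⟩) h hN Γ.subtype_injective rfl rfl fun g => Iff.rfl
  have zc : ∀ g, g * φ (zz q) = φ (zz q) * g := fun g => mul_inv_eq_iff_eq_mul.1 (h.cz g)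
  have hZ : Z[P.subgroupOf Γ] ≤ C[(⊤ : Subgroup Γ)] := by
    rw [d.center_eq, zpowers_le]
    refine mem_C.2 fun g _ => Subtype.ext ?_
    have : φ x0 ^ (4 * ((2 ^ k : ℕ) : ℤ)) = φ (zz q) := by
      rw [← map_zpow, show (4 * ((2 ^ k : ℕ) : ℤ)) = 2 * (2 * (2 ^ k : ℕ)) by ring, x0_even, half h.qd hN]; rfl
    simp only [coe_mul, coe_zpow, this, zc]
  have uK : UI K ∧ K ≠ ⊥ := by
    have zK : φ (zz q) ∈ K := sR.le (mim (C_R h.qd zz_C))
    have k : ∀ v ∈ K, v * v = 1 → v ≠ 1 → v = φ (zz q) := fun v i j l => by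
      obtain ⟨g, -, m⟩ := sR.cj_sub p2 (zpowers_le.2 i) (pig_zpowers.2 (pie_of_pow p2 ((pow_two v).trans j)))
      obtain ⟨x, a, b⟩ := m (mem_cj_conj.2 (mem_zpowers v))
      rcases R_inv h.qd a (h.inj (by rw [map_mul, b, conj_mul, j]; simp)) with rfl | rfl
      · exact (l (by simpa using b.symm)).elim
      · exact conj_injective (x := g) (b.symm.trans (Eq.symm (h.cz g)))
    exact ⟨fun a i b j a2 b2 a1 b1 => (k a i a2 a1).trans (k b j b2 b1).symm,
      ne_bot_of_mem zK fun e => h.qd.z_ne (h.inj (e.trans (map_one φ).symm))⟩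
  have mK : (K.subgroupOf Γ).map Γ.subtype = K := by rw [subgroupOf_map_subtype, inf_eq_left.2 KΓ]
  obtain ⟨⟨F, _, _, o, ⟨e⟩⟩, c⟩ := qg2 (K := K.subgroupOf Γ) (Syl.subgroupOf' sP) (zd_QD d) (by
      rw [← (map_injective Γ.subtype_injective).eq_iff, map_O_inj Γ.subtype_injective, map_subtype_top, Subgroup.map_bot,
        eq_bot_iff, ← hO]
      exact (O_le_O _ KΓ ((O_pig _ _).le_of_idx (le_top.trans nK) (O_le _ _) (by rwa [compl_compl]))).trans
        (O_le_of_normal _ le_top nK)) hZ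
    (normal_iff.1 ((normal_iff.2 nK).subgroupOf Γ)) (by rwa [relIndex_top_right]) (fun M => by
      rw [← index_comap_of_surjective _ (f := (subgroupOfEquivOfLe KΓ).symm.toMonoidHom)
        (subgroupOfEquivOfLe KΓ).symm.surjective]
      exact h2 _) (fun e => uK.2 (by rw [← mK, e, Subgroup.map_bot]))
    (fun a i b j a2 b2 a1 b1 => Subtype.ext (uK.1 a i b j (congrArg Subtype.val a2) (congrArg Subtype.val b2)
      (fun e => a1 (Subtype.ext e)) fun e => b1 (Subtype.ext e)))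
  have R2 : (RR h.qd).map φ ≤ ⁅K, K⁆ := (h.pig _).le_of_idx (der_norm K) sR.le (odd_ab h2)
  refine ⟨(DD Γ).map Γ.subtype, ?_, ⟨F, _, _, o, ⟨((DD Γ).equivMapOfInjective _ Γ.subtype_injective).symm.trans e⟩⟩,
    ?_, ?_, by rw [map_commutator]; exact derS le_top⟩ <;> rcases c with c | c <;> rw [c] <;>
    (try rw [map_commutator]) <;> rw [mK]
  exacts [normR nK nK, nK, R2, sR.le, der_le K]

end Cfsg.Agent.G2C
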