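import Cfsg.Agent.G2C.F
import Cfsg.Agent.Blk.G2S3
/-! Reduction to the centraliser of the central involution modulo its core. -/
set_option autoImplicit false
set_option linter.unusedVariables false
set_option linter.unusedSectionVars false

namespace Cfsg.Agent.G2C
open Cfsg Cfsg.Agent.G2S Cfsg.Agent.BG Subgroup

section
variable {G : Type*} [Group G] [Finite G] {N : ℕ} {q : ZMod N} {φ : MM N →* G} {g : G} {x y x' y' : MM N}

theorem red_iff (hi : Function.Injective φ) (a : Mp φ g x x') (b : Mp φ g y y') : x = y ↔ x' = y' :=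
  ⟨fun e => hi (by rw [← a, ← b, e]), fun e => hi (conj_injective (a.trans ((congrArg φ e).trans (Eq.symm b))))⟩

theorem red_step (h : Qd q) (hi : Function.Injective φ) (S : Sylow 2 G) (hS : φ.range = S) {a c : MM N}
    (ha : IsConj (φ a) (φ (zz q))) (n : a ≠ zz q) (hc : c * a = a * c) (c2 : c * c = zz q) :
    ∃ g, Mp φ g a (zz q) ∧ Mp φ g (zz q) (tt q) ∧ ∀ y, y * a = a * y → ∃ y', Mp φ g y y' := by
  have zc : ∀ s ∈ S, s * φ (zz q) = φ (zz q) * s := fun s hs => by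
    obtain ⟨m, rfl⟩ : s ∈ φ.range := by rw [hS]; exact hs
    rw [← map_mul, h.z_comm, map_mul]
  obtain ⟨g, e, l⟩ := extremal S zc ha (R := S ⊓ centralizer {φ a}) (S.isPGroup'.to_le inf_le_left)
    fun r hr => mem_centralizer_singleton_iff.1 hr.2
  have k : ∀ y, y * a = a * y → ∃ y', Mp φ g y y' := fun y j => mp_ex (by
    rw [hS]
    exact l _ ⟨hS ▸ (⟨y, rfl⟩ : φ y ∈ φ.range), mem_centralizer_singleton_iff.2 (by rw [← map_mul, j, map_mul])⟩)
  obtain ⟨m, b⟩ := k c hc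
  have b2 : Mp φ g (zz q) (m * m) := c2 ▸ b.mul b
  rcases h.p3 ((red_iff hi (b2.mul b2) mp_one).1 h.z_sq) with i | i | i
  · exact (h.z_ne ((red_iff hi b2 mp_one).2 i)).elim
  · exact (n ((red_iff hi e b2).2 i.symm)).elim
  obtain ⟨s, i⟩ := isConj_iff.1 i
  refine ⟨φ s * g, ?_, i ▸ b2.cj s, fun y j => (k y j).elim fun y' d => ⟨_, d.cj s⟩⟩
  have := Mp.cj e s
  rwa [h.z_comm s, mul_inv_cancel_right] at this

theorem red_f1 (h : Qd q) (hi : Function.Injective φ) (S : Sylow 2 G) (hS : φ.range = S)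
    (h1 : ∀ x y : G, orderOf x = 2 → orderOf y = 2 → IsConj x y) :
    ∃ g y, Mp φ g (zz q) (zz q) ∧ Mp φ g ww (tt q) ∧ Mp φ g (cc q) y := by
  have od : ∀ m : MM N, m * m = 1 → m ≠ 1 → orderOf (φ m) = 2 := fun m a b =>
    orderOf_of_pow p2 (by rw [pow_two, ← map_mul, a, map_one]) fun e => b (hi (e.trans (map_one φ).symm))
  have oz := od _ h.z_sq h.z_ne
  obtain ⟨g, a1, a2, a3⟩ := red_step h hi S hS (a := ww) (c := cc q)
    (h1 _ _ (od _ (by mm; simp) fun e => by cases congrArg MM.f e) oz) (fun e => by cases congrArg MM.f e)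
    (B_cm cc_C rfl).symm cc_sq
  obtain ⟨k, b1, b2, b3⟩ := red_step h hi S hS (a := tt q) (c := cc q) (h1 _ _ (od _ h.t_sq h.t_ne) oz)
    (fun e => h.ne (congrArg MM.b e).symm) (T_ab (C_T cc_C) tt_T) cc_sq
  obtain ⟨m, c⟩ := a3 (cc q) (B_cm cc_C rfl).symm
  have e : m * m = tt q := (red_iff hi (c.mul c) a2).1 cc_sq
  obtain ⟨y, d⟩ := b3 m (by rw [← e, mul_assoc])
  exact ⟨k * g, y, a2.comp b1, a1.comp b2, c.comp d⟩

theorem red_quo {C : Subgroup G} {Q : Type*} [Group Q] (π : C →* Q) {χ : MM N →* C} (h : Qd q)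
    (hi : Function.Injective χ) (S : Sylow 2 G) (hS : (C.subtype.comp χ).range = S)
    (h1 : ∀ x y : G, orderOf x = 2 → orderOf y = 2 → IsConj x y) (hC : C1[(χ (zz q) : G)] ≤ C) :
    F1 q (π.comp χ) := by
  obtain ⟨g, y, a, b, c⟩ := red_f1 h (φ := C.subtype.comp χ) (Subtype.val_injective.comp hi) S hS h1
  have m : g ∈ C := hC (mem_C1.2 (mul_inv_eq_iff_eq_mul.1 a))
  have k : ∀ {u v}, Mp (C.subtype.comp χ) g u v → Mp (π.comp χ) (π ⟨g, m⟩) u v := fun {u v} e => by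
    have : (⟨g, m⟩ : C) * χ u * (⟨g, m⟩ : C)⁻¹ = χ v := Subtype.ext e
    rw [Mp, MonoidHom.comp_apply, MonoidHom.comp_apply, ← this, map_mul, map_mul, map_inv]
  exact ⟨_, y, k b, k c⟩

theorem red_main (h : Qd q) (hi : Function.Injective φ) (S : Sylow 2 G) (hS : φ.range = S)
    (h1 : ∀ x y : G, orderOf x = 2 → orderOf y = 2 → IsConj x y) (t : G) (ht : orderOf t = 2)
    (htS : t ∈ (S : Subgroup G)) (htZ : ∀ s ∈ (S : Subgroup G), s * t = t * s) :
    ∃ ψ : MM N →* ↥(centralizer ({t} : Set G)) ⧸ oddCore ↥(centralizer ({t} : Set G)),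
      Sy q ψ ∧ F1 q ψ ∧ F1 q (ψ.comp sig) := by
  have mem : ∀ x, φ x ∈ (S : Subgroup G) := fun x => hS ▸ (⟨x, rfl⟩ : φ x ∈ φ.range)
  obtain rfl : t = φ (zz q) := by
    obtain ⟨u, rfl⟩ : t ∈ φ.range := hS ▸ htS
    have u2 : u * u = 1 := hi (by rw [map_mul, map_one, ← pow_two, ← ht, pow_orderOf_eq_one])
    rcases h.p1 u2 with rfl | rfl | e
    · simp at ht
    · rfl
    · obtain ⟨s, e⟩ := isConj_iff.1 e
      have : s * u = u * s := hi (by rw [map_mul, map_mul]; exact htZ _ (mem s))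
      rw [this, mul_inv_cancel_right, left_eq_mul] at e
      exact (h.z_ne e).elim
  set C := centralizer ({φ (zz q)} : Set G) with hC
  have mC : ∀ x, φ x ∈ C := fun x => mem_C1.2 (htZ _ (mem x))
  let χ : MM N →* C := φ.codRestrict C mC
  have ci : Function.Injective χ := fun x y e => hi (congrArg Subtype.val e)
  have e1 : C.subtype.comp χ = φ := rfl
  have sy : Syl 2 χ.range ⊤ := by
    have s := (syl_top p2 S).sub (L := C) (fun s hs => mem_C1.2 (htZ s hs)) le_top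
    have e2 : χ.range = (S : Subgroup G).subgroupOf C := by
      ext x
      rw [mem_subgroupOf, ← hS]
      exact ⟨fun ⟨u, e⟩ => ⟨u, congrArg Subtype.val e⟩, fun ⟨u, e⟩ => ⟨u, Subtype.ext e⟩⟩
    refine ⟨le_top, ?_, ?_⟩
    · rw [PiG, ← card_map_inj C.subtype_injective, ← MonoidHom.range_comp, e1, hS]
      exact s.pi
    · rw [relIndex_top_right, e2]
      exact s.idx
  refine ⟨(QuotientGroup.mk' _).comp χ, ⟨h, ?_, ?_, fun g => ?_⟩, red_quo _ h ci S hS h1 le_rfl,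
    red_quo (QuotientGroup.mk' (oddCore C)) (χ := χ.comp sig) h (ci.comp (Function.LeftInverse.injective sig_sig)) S ?_ h1 ?_⟩
  · refine (injective_iff_map_eq_one _).2 fun x e => ci ?_
    have m : χ x ∈ χ.range ⊓ O[{2}ᶜ]((⊤ : Subgroup C)) :=
      ⟨⟨x, rfl⟩, pPrimeCore_eq (G := C) p2 ▸ (QuotientGroup.eq_one_iff _).1 e⟩
    rw [sy.pi.inf_bot (O_pig _ _)] at m
    rw [map_one, mem_bot.1 m]
  · have := sy.map (QuotientGroup.mk' (oddCore C))
    rwa [← MonoidHom.range_comp, ← MonoidHom.range_eq_map,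
      MonoidHom.range_eq_top.2 (QuotientGroup.mk'_surjective _)] at this
  · obtain ⟨g, rfl⟩ := QuotientGroup.mk'_surjective (oddCore C) g
    have : g * χ (zz q) * g⁻¹ = χ (zz q) := Subtype.ext (mul_inv_eq_iff_eq_mul.2 (mem_C1.1 g.2))
    rw [Mp, MonoidHom.comp_apply, ← map_inv, ← map_mul, ← map_mul, this]
  · rw [← MonoidHom.comp_assoc, e1, MonoidHom.range_comp,
      MonoidHom.range_eq_top.2 (Function.RightInverse.surjective sig_sig), ← MonoidHom.range_eq_map, hS]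
  · rw [MonoidHom.comp_apply, sig_z h]
    exact le_rfl
end

theorem red_emb {G : Type*} [Group G] [Finite G] {F : Type*} [Field F] [Fintype F] (hF : Odd (Fintype.card F))
    (S : Sylow 2 G) (P : Sylow 2 ↥(Cfsg.Lie.chevG2.group F))
    (e : ↥(S : Subgroup G) ≃* ↥(P : Subgroup ↥(Cfsg.Lie.chevG2.group F))) :
    ∃ n, 1 ≤ n ∧ ∃ φ : MM (2 ^ (n + 1)) →* G, Function.Injective φ ∧ φ.range = S := by
  obtain ⟨n, m, hn, hm, hq, φ, hφ⟩ := G2S.exists_emb hF
  have hc := S1059.result (F := F) rfl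
  have cM : Nat.card (MM (2 ^ (n + 1))) = 2 ^ (2 * n + 4) := by rw [card_MM]; ring
  have cr : Nat.card φ.range = 2 ^ (2 * n + 4) := by
    rw [← cM]; exact (Nat.card_congr (MonoidHom.ofInjective hφ).toEquiv).symm
  have h1 := Fintype.one_lt_card (α := F)
  set q := Fintype.card F
  have h6 : q ^ 6 - 1 = (q ^ 2 - 1) * (q ^ 4 + q ^ 2 + 1) := by
    obtain ⟨k, hk⟩ : ∃ k, q ^ 2 = k + 1 := ⟨q ^ 2 - 1, by have := Nat.one_le_pow 2 q (by omega); omega⟩
    rw [show q ^ 6 = (q ^ 2) ^ 3 by ring, show q ^ 4 = (q ^ 2) ^ 2 by ring, hk, Nat.add_sub_cancel,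
      Nat.sub_eq_iff_eq_add (Nat.one_le_pow _ _ (by omega))]
    ring
  have ho : Odd (q ^ 6 * m * m * (q ^ 4 + q ^ 2 + 1)) :=
    ((hF.pow.mul hm).mul hm).mul ((hF.pow.add_odd hF.pow).add_one)
  have hc' : Nat.card (Cfsg.Lie.chevG2.group F) = 2 ^ (2 * n + 4) * (q ^ 6 * m * m * (q ^ 4 + q ^ 2 + 1)) := by
    rw [hc, h6, hq]; ring
  have : Finite (Cfsg.Lie.chevG2.group F) := Nat.finite_of_card_ne_zero (by
    rw [hc']; exact mul_ne_zero (by positivity) ho.pos.ne')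
  have hi : φ.range.index = q ^ 6 * m * m * (q ^ 4 + q ^ 2 + 1) := by
    have := φ.range.card_mul_index
    rw [cr, hc'] at this
    exact Nat.eq_of_mul_eq_mul_left (by positivity) this
  let P' : Sylow 2 (Cfsg.Lie.chevG2.group F) := (IsPGroup.of_card cr).toSylow (by
    rw [hi, ← even_iff_two_dvd]; exact Nat.not_even_iff_odd.2 ho)
  let e' : MM (2 ^ (n + 1)) ≃* (S : Subgroup G) :=
    (MonoidHom.ofInjective hφ).trans ((P'.equiv P).trans e.symm)
  refine ⟨n, hn, (S : Subgroup G).subtype.comp e'.toMonoidHom, Subtype.val_injective.comp e'.injective, ?_⟩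
  rw [MonoidHom.range_comp, MonoidHom.range_eq_top.2 e'.surjective, ← MonoidHom.range_eq_map,
    Subgroup.range_subtype]

theorem reduce {G : Type*} [Group G] [Finite G] {F : Type*} [Field F] [Fintype F] (hF : Odd (Fintype.card F))
    (S : Sylow 2 G) (P : Sylow 2 ↥(Cfsg.Lie.chevG2.group F))
    (hS : Nonempty (↥(S : Subgroup G) ≃* ↥(P : Subgroup ↥(Cfsg.Lie.chevG2.group F))))
    (h1 : ∀ x y : G, orderOf x = 2 → orderOf y = 2 → IsConj x y) (t : G) (ht : orderOf t = 2)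
    (htS : t ∈ (S : Subgroup G)) (htZ : ∀ s ∈ (S : Subgroup G), s * t = t * s) :
    ∃ (N k : ℕ) (q : ZMod N) (φ : MM N →* ↥(centralizer ({t} : Set G)) ⧸ oddCore ↥(centralizer ({t} : Set G))),
      N = 4 * 2 ^ k ∧ Sy q φ ∧ F1 q φ ∧ F1 q (φ.comp sig) ∧
      O[{2}ᶜ]((⊤ : Subgroup (↥(centralizer ({t} : Set G)) ⧸ oddCore ↥(centralizer ({t} : Set G))))) = ⊥ := by
  obtain ⟨e⟩ := hS
  obtain ⟨n, hn, φ, hi, hr⟩ := red_emb hF S P e
  obtain ⟨ψ, a, b, c⟩ := red_main (G2S.qd n hn) hi S hr h1 t ht htS htZ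
  refine ⟨_, n - 1, _, ψ, ?_, a, b, c, ?_⟩
  · obtain ⟨k, rfl⟩ : ∃ k, n = k + 1 := ⟨n - 1, by omega⟩
    rw [Nat.add_sub_cancel]; ring
  · have := Fact.mk p2
    rw [← pPrimeCore_eq p2]
    exact PLoc.pPrimeCore_quotient_pPrimeCore

end Cfsg.Agent.G2C
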